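import Cfsg.Agent.FPF25.Rep
import Mathlib.RingTheory.LittleWedderburn
import Mathlib.RingTheory.Finiteness.Subalgebra
import Mathlib.LinearAlgebra.FreeModule.PID
import Mathlib.Algebra.CharP.Defs
import Mathlib.GroupTheory.OrderOfElement

/-!
# Finite multiplicative subgroups of division rings

In positive characteristic they are commutative; in characteristic zero they have a fixed point
free representation over a prime field of coprime characteristic, by reducing the integral span.
-/

namespace Cfsg.Agent.DivRingSubgroup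

open Finset

variable {D : Type*} [DivisionRing D] {H : Type*} [Group H] [Finite H]

/-- In positive characteristic a finite subgroup of the units is commutative. -/
theorem commute_of_charP (p : ℕ) [Fact p.Prime] [CharP D p] (ψ : H →* D) (a b : H) :
    ψ a * ψ b = ψ b * ψ a := by
  letI : Algebra (ZMod p) D := ZMod.algebra D p
  set R := Algebra.adjoin (ZMod p) (Set.range ψ)
  haveI hfin : Module.Finite (ZMod p) R := by
    refine (Module.Finite.iff_fg (N := Subalgebra.toSubmodule R)).mpr ?_
    rw [Algebra.adjoin_eq_span, show Submonoid.closure (Set.range ψ) = MonoidHom.mrange ψ from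
      Submonoid.closure_eq (MonoidHom.mrange ψ), MonoidHom.coe_mrange]
    exact Submodule.fg_span (Set.finite_range ψ)
  haveI : Finite R := Module.finite_of_finite (ZMod p)
  exact congrArg Subtype.val ((Finite.isDomain_to_isField R).mul_comm
    (⟨ψ a, Algebra.subset_adjoin ⟨a, rfl⟩⟩ : R) ⟨ψ b, Algebra.subset_adjoin ⟨b, rfl⟩⟩)

theorem sum_mul_pow_identity (u : D) (n : ℕ) :
    (u - 1) * ∑ k ∈ range n, (k : D) * u ^ k = (n : D) * u ^ n - u * ∑ k ∈ range n, u ^ k := by
  induction n with
  | zero => simp
  | succ n ih =>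
    rw [sum_range_succ, sum_range_succ, mul_add, ih, mul_add, Nat.cast_succ, pow_succ' u n]
    have hc : u * ((n : D) * u ^ n) = (n : D) * (u * u ^ n) := by
      rw [← mul_assoc, (Nat.cast_commute n u).eq.symm, mul_assoc]
    rw [sub_mul, one_mul, hc, add_mul, one_mul]
    abel

/-- In characteristic zero there is a fixed point free representation. -/
theorem hasFPF [CharZero D] (ψ : H →* D) (hψ : Function.Injective ψ) :
    Cfsg.Agent.FPF25.HasFPF H := by
  classical
  set R := Algebra.adjoin ℤ (Set.range ψ)
  haveI hfin : Module.Finite ℤ R := by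
    refine (Module.Finite.iff_fg (N := Subalgebra.toSubmodule R)).mpr ?_
    rw [Algebra.adjoin_eq_span, show Submonoid.closure (Set.range ψ) = MonoidHom.mrange ψ from
      Submonoid.closure_eq (MonoidHom.mrange ψ), MonoidHom.coe_mrange]
    exact Submodule.fg_span (Set.finite_range ψ)
  haveI : Module.Free ℤ R := Module.free_of_finite_type_torsion_free'
  haveI : Nontrivial R := inferInstance
  obtain ⟨q, hqn, hq⟩ := Nat.exists_infinite_primes (Nat.card H + 1)
  haveI : Fact q.Prime := ⟨hq⟩
  let k := Module.finrank ℤ R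
  let b := Module.finBasis ℤ R
  let ψR : H →* R :=
    { toFun := fun g => ⟨ψ g, Algebra.subset_adjoin ⟨g, rfl⟩⟩
      map_one' := Subtype.ext (map_one ψ)
      map_mul' := fun a b => Subtype.ext (map_mul ψ a b) }
  let red : R →+* Matrix (Fin k) (Fin k) (ZMod q) :=
    ((Int.castRingHom (ZMod q)).mapMatrix).comp (Algebra.leftMulMatrix b).toRingHom
  refine ⟨q, k, inferInstance, ((red : R →* Matrix (Fin k) (Fin k) (ZMod q)).comp ψR).toHomUnits,
    Module.finrank_pos, fun hd => ?_, fun g v hg hv => ?_⟩
  · have := Nat.le_of_dvd Nat.card_pos hd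
    omega
  set u := ψR g
  set n := Nat.card H
  have hun : (ψ g) ^ n = 1 := by rw [← map_pow, pow_card_eq_one', map_one]
  have hu1 : ψ g ≠ 1 := fun e => hg (hψ (e.trans (map_one ψ).symm))
  have hgeom : ∑ i ∈ range n, (ψ g) ^ i = 0 := by
    have h := mul_geom_sum (ψ g) n
    rw [hun, sub_self] at h
    exact (mul_eq_zero.mp h).resolve_left (sub_ne_zero.mpr hu1)
  have key : (∑ i ∈ range n, (i : R) * u ^ i) * (u - 1) = (n : R) := by
    apply Subtype.ext
    push_cast
    have hcomm : Commute (∑ i ∈ range n, ((i : D) * (ψ g) ^ i)) (ψ g - 1) :=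
      Commute.sum_left _ _ _ fun i _ =>
        (((Nat.cast_commute i (ψ g)).mul_left ((Commute.refl _).pow_left i))).sub_right
          (Commute.one_right _)
    show (∑ i ∈ range n, ((i : D) * (ψ g) ^ i)) * (ψ g - 1) = (n : D)
    rw [hcomm.eq, sum_mul_pow_identity, hun, hgeom, mul_one, mul_zero, sub_zero]
  have hv' : Matrix.mulVec (red u) v = v := hv
  have h0 : Matrix.mulVec (red (u - 1)) v = 0 := by
    rw [map_sub, map_one, Matrix.sub_mulVec, hv', Matrix.one_mulVec, sub_self]
  have h1 : Matrix.mulVec (red ((∑ i ∈ range n, (i : R) * u ^ i) * (u - 1))) v = 0 := by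
    rw [map_mul, ← Matrix.mulVec_mulVec, h0, Matrix.mulVec_zero]
  rw [key, map_natCast, Matrix.natCast_mulVec] at h1
  have hn : ((n : ℕ) : ZMod q) ≠ 0 := by
    rw [Ne, ZMod.natCast_eq_zero_iff]
    intro hd
    have := Nat.le_of_dvd Nat.card_pos hd
    omega
  exact (smul_eq_zero.mp h1).resolve_left hn

end Cfsg.Agent.DivRingSubgroup
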