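import Cfsg.Agent.DivRingSubgroup.TwoSquares
import Cfsg.Agent.FPF25.Sl25
import Mathlib.GroupTheory.Sylow
import Mathlib.Algebra.Field.Subfield.Basic
import Mathlib.Tactic.NoncommRing

/-!
# `SL(2, 5)` inside a division ring of characteristic zero

Its image has no commuting root of unity of prime order `≥ 7` and no normal overgroup in which it
has index two.
-/

namespace Cfsg.Agent.DivRingSubgroup

open Matrix

local notation "T5" => SpecialLinearGroup (Fin 2) (ZMod 5)

/-- An element of order four. -/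
def sI : T5 := ⟨!![0, 1; 4, 0], by decide +kernel⟩
/-- An element of order four anticommuting with `sI`. -/
def sJ : T5 := ⟨!![2, 0; 0, 3], by decide +kernel⟩
/-- An element of order five. -/
def sU : T5 := ⟨!![1, 1; 0, 1], by decide +kernel⟩
/-- An element of order five. -/
def sL : T5 := ⟨!![1, 0; 1, 1], by decide +kernel⟩
/-- An element of order three. -/
def sB : T5 := sI * sU

theorem sI_sq : sI * sI = -1 := by decide +kernel
theorem sJ_sq : sJ * sJ = -1 := by decide +kernel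
theorem sI_sJ : sI * sJ = -(sJ * sI) := by decide +kernel
theorem sB_cube : sB * (sB * sB) = 1 := by decide +kernel
theorem sB_ne_one : sB ≠ 1 := by decide +kernel
theorem sI_sB : sI * sB = -sU := by decide +kernel
theorem sL_eq : sL = sI * sU⁻¹ * sI⁻¹ := by decide +kernel
theorem sU_pow_five : sU ^ 5 = 1 := by decide +kernel
theorem sU_ne_one : sU ≠ 1 := by decide +kernel
theorem sJ_conj_sU : sJ * sU * sJ⁻¹ = sU⁻¹ := by decide +kernel
theorem neg_one_ne_one : (-1 : T5) ≠ 1 := by decide +kernel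
theorem not_commute_sU_sL : sU * sL ≠ sL * sU := by decide +kernel
theorem sL_pow_five : sL ^ 5 = 1 := by decide +kernel
theorem sL_ne_one : sL ≠ 1 := by decide +kernel
theorem order_test : (sU * sL) ^ 6 ≠ 1 ∧ (sU * sL⁻¹) ^ 6 = 1 := by decide +kernel
theorem exists_inv_sB : ∃ s : T5, s * sB * s⁻¹ = sB⁻¹ := by decide +kernel

theorem trace_of_pow_five : ∀ t : T5, t ^ 5 = 1 → t.1 0 0 + t.1 1 1 = 2 := by decide +kernel

theorem pow_six_of_commute : ∀ t : T5, t * sB = sB * t → t ^ 6 = 1 := by decide +kernel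

theorem eq_one_or_neg_one : ∀ t : T5, t * sU = sU * t → t * sL = sL * t → t = 1 ∨ t = -1 := by
  decide +kernel

theorem bruhat_formula : ∀ a b c d : ZMod 5, a * d - b * c = 1 →
    let w : ZMod 5 := if c = 0 then 1 else 0
    let c' := c - w * d
    let x := (a - w * b - 1) * c' ^ 3
    let z := (d - 1) * c' ^ 3
    !![a, b; c, d] = !![1, x; 0, 1] * !![1, 0; c', 1] * !![1, z; 0, 1] * !![1, 0; w, 1] := by
  decide +kernel

theorem lower_formula : ∀ a b c d : ZMod 5, a * d - b * c = 1 → a + d = 2 → c ≠ 0 →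
    let j := (a - 1) * c ^ 3
    !![a, b; c, d] = !![1, j; 0, 1] * !![1, 0; c, 1] * !![1, -j; 0, 1] := by
  decide +kernel

theorem upper_commute : ∀ a b c d : ZMod 5, a * d - b * c = 1 → a + d = 2 → c = 0 →
    !![a, b; c, d] * !![1, 1; 0, 1] = !![1, 1; 0, 1] * !![a, b; c, d] := by
  decide +kernel

theorem pow_sU_val : ∀ k : ZMod 5, (sU ^ k.val).1 = !![1, k; 0, 1] := by decide +kernel

theorem pow_sL_val : ∀ k : ZMod 5, (sL ^ k.val).1 = !![1, 0; k, 1] := by decide +kernel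

theorem eta_sl (t : T5) : t.1 = !![t.1 0 0, t.1 0 1; t.1 1 0, t.1 1 1] ∧
    t.1 0 0 * t.1 1 1 - t.1 0 1 * t.1 1 0 = 1 :=
  ⟨Matrix.eta_fin_two _, (Matrix.det_fin_two _).symm.trans t.2⟩

/-- `sU` and `sL` generate. -/
theorem closure_eq_top : Subgroup.closure ({sU, sL} : Set T5) = ⊤ := by
  refine eq_top_iff.mpr fun t _ => ?_
  obtain ⟨e, hd⟩ := eta_sl t
  have h := bruhat_formula _ _ _ _ hd
  simp only [← e, ← pow_sU_val, ← pow_sL_val] at h
  rw [show t = _ * _ * _ * _ from Subtype.ext h]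
  have hU : sU ∈ Subgroup.closure ({sU, sL} : Set T5) := Subgroup.subset_closure (by simp)
  have hL : sL ∈ Subgroup.closure ({sU, sL} : Set T5) := Subgroup.subset_closure (by simp)
  exact mul_mem (mul_mem (mul_mem (pow_mem hU _) (pow_mem hL _)) (pow_mem hU _)) (pow_mem hL _)

/-- An element of order five is a conjugate under `⟨sU⟩` of a power of `sL`, or commutes with
`sU`. -/
theorem order_five_cases (t : T5) (ht : t ^ 5 = 1) :
    t * sU = sU * t ∨ ∃ j k : ℕ, t = sU ^ j * sL ^ k * (sU ^ j)⁻¹ := by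
  obtain ⟨e, hd⟩ := eta_sl t
  by_cases hc : t.1 1 0 = 0
  · left
    have h := upper_commute _ _ _ _ hd (trace_of_pow_five t ht) hc
    rw [← e] at h
    exact Subtype.ext h
  · right
    have h := lower_formula _ _ _ _ hd (trace_of_pow_five t ht) hc
    simp only [← e, ← pow_sU_val, ← pow_sL_val] at h
    refine ⟨_, _, (show t = _ * _ * _ from Subtype.ext h).trans
      (congrArg _ (eq_inv_of_mul_eq_one_left ?_))⟩
    apply Subtype.ext
    show (sU ^ _).1 * (sU ^ _).1 = (1 : Matrix (Fin 2) (Fin 2) (ZMod 5))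
    rw [pow_sU_val, pow_sU_val, Matrix.one_fin_two]
    simp [Matrix.mul_fin_two]

/-- Elements of the same prime order `5` or `3` generate conjugate subgroups. -/
theorem exists_conj_zpowers {p : ℕ} [Fact p.Prime] (hp : p = 3 ∨ p = 5) {s t : T5}
    (hs : orderOf s = p) (ht : orderOf t = p) :
    ∃ g : T5, g * t * g⁻¹ ∈ Subgroup.zpowers s := by
  have hfac : (Nat.card T5).factorization p = 1 := by
    rw [FPF25.card_sl25]
    rcases hp with rfl | rfl
    · rw [show 120 = 3 ^ 1 * 40 by rfl, Nat.factorization_mul (by norm_num) (by norm_num),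
        Nat.prime_three.factorization_pow, Finsupp.add_apply, Finsupp.single_eq_same,
        Nat.factorization_eq_zero_of_not_dvd (by norm_num)]
    · rw [show 120 = 5 ^ 1 * 24 by rfl, Nat.factorization_mul (by norm_num) (by norm_num),
        Nat.prime_five.factorization_pow, Finsupp.add_apply, Finsupp.single_eq_same,
        Nat.factorization_eq_zero_of_not_dvd (by norm_num)]
  have mk : ∀ u : T5, orderOf u = p → ∃ Q : Sylow p T5, (Q : Subgroup T5) = Subgroup.zpowers u :=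
    fun u hu => ⟨Sylow.ofCard (Subgroup.zpowers u) (by rw [Nat.card_zpowers, hu, hfac, pow_one]),
      Sylow.coe_ofCard _ _⟩
  obtain ⟨P, hP⟩ := mk s hs
  obtain ⟨Q, hQ⟩ := mk t ht
  obtain ⟨g, hg⟩ := MulAction.exists_smul_eq T5 Q P
  refine ⟨g, ?_⟩
  rw [← hP, ← hg]
  exact Subgroup.smul_mem_pointwise_smul _ _ _ (hQ ▸ Subgroup.mem_zpowers t)

section Identities

variable {D : Type*} [DivisionRing D]

/-- An anticommuting pair of square roots of `-1` together with a commuting solution of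
`x² + y² = -1` is impossible in a division ring. -/
theorem false_of_two_squares [CharZero D] {I J x y : D} (hI : I * I = -1) (hJ : J * J = -1)
    (hIJ : I * J = -(J * I)) (hxy : x * y = y * x) (hxI : x * I = I * x) (hyI : y * I = I * y)
    (hxJ : x * J = J * x) (hyJ : y * J = J * y) (h : x ^ 2 + y ^ 2 = -1) : False := by
  have hI0 : I ≠ 0 := by rintro rfl; simp at hI
  have hJ0 : J ≠ 0 := by rintro rfl; simp at hJ
  set u := x + y * I with hu
  set v := x - y * I with hv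
  have hJu : J * v = u * J := by
    have : J * (y * I) = -(y * I * J) := by
      rw [← mul_assoc, ← hyJ, mul_assoc, mul_assoc, hIJ, mul_neg, neg_neg]
    rw [hu, hv, mul_sub, add_mul, ← hxJ, this, sub_neg_eq_add]
  have huv : u * v = -1 := by
    have e : y * I * (y * I) = -(y * y) := by
      rw [mul_assoc, ← mul_assoc I y I, ← hyI, mul_assoc y I I, hI, mul_neg, mul_one, mul_neg]
    have e2 : y * I * x = x * (y * I) := by rw [mul_assoc, ← hxI, ← mul_assoc, ← hxy, mul_assoc]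
    rw [hu, hv, mul_sub, add_mul, add_mul, e, e2, ← h, pow_two, pow_two]
    abel
  have hz : (J + u) * (J - v) = 0 := by
    rw [mul_sub, add_mul J u J, add_mul J u v, hJ, ← hJu, huv]
    abel
  have hcI : ∀ w : D, w = x + y * I ∨ w = x - y * I → w * I = I * w := by
    rintro w (rfl | rfl)
    · rw [add_mul, mul_add, hxI, ← mul_assoc I, ← hyI]
    · rw [sub_mul, mul_sub, hxI, ← mul_assoc I, ← hyI]
  have hJI : J * I = I * J := by
    rcases mul_eq_zero.mp hz with h0 | h0
    · rw [eq_neg_of_add_eq_zero_left h0, neg_mul, mul_neg, hcI u (Or.inl rfl)]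
    · rw [sub_eq_zero.mp h0, hcI v (Or.inr rfl)]
  rw [hJI] at hIJ
  have h2 : (2 : D) * (I * J) = 0 := by rw [two_mul]; exact add_eq_zero_iff_eq_neg.mpr hIJ
  exact mul_ne_zero hI0 hJ0 ((mul_eq_zero.mp h2).resolve_left two_ne_zero)

/-- A square root of `-1` anticommuting with a square root of `5` is impossible. -/
theorem false_of_sqrt_five [CharZero D] {g d : D} (hg : g * g = -1) (hd : d * d = 5)
    (hgd : g * d = -(d * g)) : False := by
  have hg0 : g ≠ 0 := by rintro rfl; simp at hg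
  have hd0 : d ≠ 0 := by rintro rfl; simp at hd
  have hdv : d * (2 - g) = (2 + g) * d := by rw [mul_sub, add_mul, hgd, two_mul, mul_two]; abel
  have huv : (2 + g) * (2 - g) = (5 : D) := by
    rw [mul_sub, add_mul, add_mul, hg, two_mul g, mul_two g]
    norm_num
    abel_nf
    norm_num
  have hz : (d + (2 + g)) * (d - (2 - g)) = 0 := by
    rw [mul_sub, add_mul d (2 + g) d, add_mul d (2 + g) (2 - g), hd, ← hdv, huv]
    abel
  have hdg : d * g = g * d := by
    rcases mul_eq_zero.mp hz with h0 | h0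
    · rw [eq_neg_of_add_eq_zero_left h0, neg_mul, mul_neg, add_mul, mul_add, two_mul, mul_two]
    · rw [sub_eq_zero.mp h0, sub_mul, mul_sub, two_mul, mul_two]
  rw [hdg] at hgd
  have h2 : (2 : D) * (g * d) = 0 := by rw [two_mul]; exact add_eq_zero_iff_eq_neg.mpr hgd
  exact mul_ne_zero hg0 hd0 ((mul_eq_zero.mp h2).resolve_left two_ne_zero)

/-- The field of elements commuting with everything commuting with a commuting set. -/
def biCentralizer (s : Set D) : Subfield D where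
  carrier := Set.centralizer (Set.centralizer s)
  mul_mem' := Set.mul_mem_centralizer
  one_mem' := Set.one_mem_centralizer
  add_mem' := Set.add_mem_centralizer
  zero_mem' := Set.zero_mem_centralizer
  neg_mem' := Set.neg_mem_centralizer
  inv_mem' := fun _ h => Set.inv_mem_centralizer₀ h

theorem exists_two_squares [CharZero D] {d z : D} (hdz : d * z = z * d) (hd : d * d = 5) {l : ℕ}
    (hl : l.Prime) (h7 : 7 ≤ l) (hz : z ^ l = 1) (hz1 : z ≠ 1) :
    ∃ x y : D, x * y = y * x ∧ x ^ 2 + y ^ 2 = -1 ∧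
      ∀ w : D, w * d = d * w → w * z = z * w → x * w = w * x ∧ y * w = w * y := by
  set s : Set D := {d, z}
  have hs : s ⊆ Set.centralizer s := by
    rintro a (rfl | rfl) b (rfl | rfl)
    exacts [rfl, hdz.symm, hdz, rfl]
  have hmem : ∀ a ∈ s, a ∈ biCentralizer s := fun a ha b hb => (hb a ha).symm
  have hcomm : ∀ a b : biCentralizer s, a * b = b * a := fun a b =>
    Subtype.ext ((b.2 (a : D) fun c hc => (a.2 c (hs hc))))
  letI : Field (biCentralizer s) :=
    { (inferInstance : DivisionRing (biCentralizer s)) with mul_comm := hcomm }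
  haveI : CharZero (biCentralizer s) :=
    ⟨fun m n hmn => Nat.cast_injective (R := D) (by simpa using congrArg Subtype.val hmn)⟩
  obtain ⟨x, y, hxy⟩ := sumTwoSq_neg_one (F := biCentralizer s)
    (s := ⟨d, hmem d (Set.mem_insert _ _)⟩) (z := ⟨z, hmem z (Set.mem_insert_of_mem _ rfl)⟩)
    (Subtype.ext (by rw [pow_two]; exact hd)) hl h7 (Subtype.ext hz)
    fun h => hz1 (congrArg Subtype.val h)
  refine ⟨x, y, congrArg Subtype.val (hcomm x y), congrArg Subtype.val hxy, fun w hwd hwz => ?_⟩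
  have hw : w ∈ Set.centralizer s := by
    rintro a (rfl | rfl)
    exacts [hwd.symm, hwz.symm]
  exact ⟨(x.2 w hw).symm, (y.2 w hw).symm⟩

end Identities

section Main

variable {D : Type*} [DivisionRing D] (ψ : T5 →* D)

/-- The element corresponding to the golden ratio. -/
def phi : D := -(ψ sU + ψ sU⁻¹)

/-- The element corresponding to the square root of five. -/
def sqrtFive : D := 2 * phi ψ - 1

variable {ψ} (hψ : Function.Injective ψ)
include hψ

theorem map_neg_one : ψ (-1) = -1 := by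
  have h : ψ (-1) * ψ (-1) = 1 := by rw [← map_mul, neg_one_mul, neg_neg, map_one]
  exact (mul_self_eq_one_iff.mp h).resolve_left fun e =>
    neg_one_ne_one (hψ (e.trans (map_one ψ).symm))

theorem map_neg (t : T5) : ψ (-t) = -ψ t := by
  rw [← neg_one_mul, map_mul, map_neg_one hψ, neg_one_mul]

theorem phi_eq : phi ψ = ψ sI * ψ sB + (ψ sB * ψ sI + ψ sI) := by
  have hI : ψ sI * ψ sI = -1 := by rw [← map_mul, sI_sq, map_neg_one hψ]
  have hB1 : ψ sB - 1 ≠ 0 := sub_ne_zero.mpr fun e => sB_ne_one (hψ (e.trans (map_one ψ).symm))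
  have hB : ψ sB * ψ sB + ψ sB + 1 = 0 := by
    have h3 : ψ sB * (ψ sB * ψ sB) = 1 := by rw [← map_mul, ← map_mul, sB_cube, map_one]
    refine (mul_eq_zero.mp (?_ : (ψ sB - 1) * (ψ sB * ψ sB + ψ sB + 1) = 0)).resolve_left hB1
    rw [mul_add, mul_add, sub_mul, sub_mul, h3, mul_one, one_mul, one_mul]
    abel
  have hU : ψ sI * ψ sB = -ψ sU := by rw [← map_mul, sI_sB, map_neg hψ]
  have hinv : (ψ sB * ψ sI + ψ sI) * (ψ sI * ψ sB) = 1 := by
    rw [add_mul, mul_assoc, ← mul_assoc (ψ sI) (ψ sI), hI, neg_one_mul, mul_neg, ← neg_add,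
      eq_neg_of_add_eq_zero_left hB, neg_neg]
  have hUinv : ψ sU⁻¹ = -(ψ sB * ψ sI + ψ sI) := by
    rw [hU, mul_neg] at hinv
    have h1 : ψ sU * ψ sU⁻¹ = 1 := by rw [← map_mul, mul_inv_cancel, map_one]
    exact (left_inv_eq_right_inv (by rw [neg_mul]; exact hinv) h1).symm
  rw [phi, hUinv, hU]
  abel

theorem phi_commute (t : T5) : ψ t * phi ψ = phi ψ * ψ t := by
  have hI : ψ sI * ψ sI = -1 := by rw [← map_mul, sI_sq, map_neg_one hψ]
  have hB1 : ψ sB - 1 ≠ 0 := sub_ne_zero.mpr fun e => sB_ne_one (hψ (e.trans (map_one ψ).symm))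
  have hB : ψ sB * ψ sB = -ψ sB - 1 := by
    have h3 : ψ sB * (ψ sB * ψ sB) = 1 := by rw [← map_mul, ← map_mul, sB_cube, map_one]
    have := (mul_eq_zero.mp (?_ : (ψ sB - 1) * (ψ sB * ψ sB + ψ sB + 1) = 0)).resolve_left hB1
    · rw [← sub_eq_zero, ← this]; abel
    · rw [mul_add, mul_add, sub_mul, sub_mul, h3, mul_one, one_mul, one_mul]
      abel
  let K : Subgroup T5 :=
    { carrier := {t | ψ t * phi ψ = phi ψ * ψ t}
      mul_mem' := fun {a b} (ha : ψ a * phi ψ = phi ψ * ψ a) (hb : ψ b * phi ψ = phi ψ * ψ b) => by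
        show ψ (a * b) * phi ψ = phi ψ * ψ (a * b)
        rw [map_mul, mul_assoc, hb, ← mul_assoc, ha, mul_assoc]
      one_mem' := by
        show ψ 1 * phi ψ = phi ψ * ψ 1
        rw [map_one, one_mul, mul_one]
      inv_mem' := fun {a} (ha : ψ a * phi ψ = phi ψ * ψ a) => by
        have h1 : ψ a⁻¹ * ψ a = 1 := by rw [← map_mul, inv_mul_cancel, map_one]
        have h2 : ψ a * ψ a⁻¹ = 1 := by rw [← map_mul, mul_inv_cancel, map_one]
        show ψ a⁻¹ * phi ψ = phi ψ * ψ a⁻¹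
        calc ψ a⁻¹ * phi ψ = ψ a⁻¹ * phi ψ * (ψ a * ψ a⁻¹) := by rw [h2, mul_one]
          _ = ψ a⁻¹ * (phi ψ * ψ a) * ψ a⁻¹ := by simp only [mul_assoc]
          _ = ψ a⁻¹ * ψ a * phi ψ * ψ a⁻¹ := by rw [← ha]; simp only [mul_assoc]
          _ = phi ψ * ψ a⁻¹ := by rw [h1, one_mul] }
  have hKI : sI ∈ K := by
    show ψ sI * phi ψ = phi ψ * ψ sI
    rw [phi_eq hψ]
    simp only [mul_add, add_mul, ← mul_assoc, hI]
    simp only [mul_assoc, hI]
    noncomm_ring
  have hKB : sB ∈ K := by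
    show ψ sB * phi ψ = phi ψ * ψ sB
    rw [phi_eq hψ]
    simp only [mul_add, add_mul, ← mul_assoc, hB]
    simp only [mul_assoc, hB]
    noncomm_ring
  have hKU : sU ∈ K := by
    have h : -sU ∈ K := sI_sB ▸ K.mul_mem hKI hKB
    have h1 : (-1 : T5) ∈ K := sI_sq ▸ K.mul_mem hKI hKI
    simpa using K.mul_mem h1 h
  have hKL : sL ∈ K := sL_eq ▸ K.mul_mem (K.mul_mem hKI (K.inv_mem hKU)) (K.inv_mem hKI)
  have : Subgroup.closure ({sU, sL} : Set T5) ≤ K := (Subgroup.closure_le _).mpr (by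
    rintro a (rfl | rfl)
    exacts [hKU, hKL])
  exact this (closure_eq_top ▸ Subgroup.mem_top t)

theorem phi_sq : phi ψ * phi ψ = phi ψ + 1 := by
  set w : D := -ψ sU with hw
  have hw0 : w ≠ 0 := by
    intro h
    have : ψ sU * ψ sU⁻¹ = 1 := by rw [← map_mul, mul_inv_cancel, map_one]
    rw [neg_eq_zero.mp h, zero_mul] at this
    exact zero_ne_one this
  have hwi : -ψ sU⁻¹ = w⁻¹ := by
    refine eq_inv_of_mul_eq_one_left ?_
    rw [hw, neg_mul_neg, ← map_mul, inv_mul_cancel, map_one]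
  have hphi : phi ψ = w + w⁻¹ := by rw [← hwi, hw, phi]; abel
  have h5 : w ^ 5 = -1 := by
    rw [hw, Odd.neg_pow (by decide), ← map_pow, sU_pow_five, map_one]
  have hne : w + 1 ≠ 0 := fun h => sU_ne_one (hψ (by
    rw [map_one, ← neg_inj]; exact eq_neg_of_add_eq_zero_left h))
  have h4 : w ^ 4 - w ^ 3 + w ^ 2 - w + 1 = 0 := by
    refine (mul_eq_zero.mp (?_ : (w + 1) * (w ^ 4 - w ^ 3 + w ^ 2 - w + 1) = 0)).resolve_left hne
    have : (w + 1) * (w ^ 4 - w ^ 3 + w ^ 2 - w + 1) = w ^ 5 + 1 := by noncomm_ring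
    rw [this, h5, neg_add_cancel]
  rw [hphi]
  apply mul_left_cancel₀ (pow_ne_zero 2 hw0)
  have e1 : w ^ 2 * ((w + w⁻¹) * (w + w⁻¹)) = w ^ 4 + 2 * w ^ 2 + 1 := by
    have a1 : w * w⁻¹ = 1 := mul_inv_cancel₀ hw0
    have a2 : w⁻¹ * w = 1 := inv_mul_cancel₀ hw0
    simp only [mul_add, add_mul, pow_succ, pow_zero, one_mul, mul_assoc, a1, a2, mul_one, two_mul]
    rw [← mul_assoc w w⁻¹ w⁻¹, a1, one_mul, a1]
    abel
  have e2 : w ^ 2 * (w + w⁻¹ + 1) = w ^ 3 + w + w ^ 2 := by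
    simp only [mul_add, pow_succ, pow_zero, one_mul, mul_assoc, mul_inv_cancel₀ hw0, mul_one]
  rw [e1, e2, ← sub_eq_zero, ← h4, two_mul]
  abel

theorem sqrtFive_sq : sqrtFive ψ * sqrtFive ψ = 5 := by
  have h := phi_sq hψ
  have e : sqrtFive ψ * sqrtFive ψ = 4 * (phi ψ * phi ψ) - 4 * phi ψ + 1 := by
    rw [sqrtFive]
    noncomm_ring
  rw [e, h]
  noncomm_ring
  norm_num

theorem sq_add_sq_ne [CharZero D] :
    ψ sU * ψ sU + ψ sU⁻¹ * ψ sU⁻¹ ≠ -phi ψ := by
  intro hb
  have h1 : ψ sU * ψ sU⁻¹ = 1 := by rw [← map_mul, mul_inv_cancel, map_one]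
  have h1' : ψ sU⁻¹ * ψ sU = 1 := by rw [← map_mul, inv_mul_cancel, map_one]
  have e : phi ψ * phi ψ = ψ sU * ψ sU + ψ sU⁻¹ * ψ sU⁻¹ + (1 + 1) := by
    rw [phi, neg_mul_neg]
    simp only [add_mul, mul_add, h1, h1']
    abel
  rw [hb, phi_sq hψ, ← sub_eq_zero] at e
  have h2 : (2 : D) * phi ψ = 1 := by
    rw [← sub_eq_zero, ← e, two_mul]
    abel
  have h3 : (2 : D) * phi ψ * ((2 : D) * phi ψ) = 4 * (phi ψ + 1) := by
    rw [← phi_sq hψ]; noncomm_ring
  rw [h2, one_mul, mul_add, show (4 : D) * phi ψ = 2 * (2 * phi ψ) by noncomm_ring, h2] at h3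
  norm_num at h3

theorem sqrtFive_commute (t : T5) : ψ t * sqrtFive ψ = sqrtFive ψ * ψ t := by
  rw [sqrtFive, two_mul, mul_sub, sub_mul, mul_add, add_mul, phi_commute hψ, mul_one, one_mul]

theorem false_of_commuting [CharZero D] {x y : D} (hxy : x * y = y * x) (h : x ^ 2 + y ^ 2 = -1)
    (hx : ∀ t, x * ψ t = ψ t * x) (hy : ∀ t, y * ψ t = ψ t * y) : False :=
  false_of_two_squares (I := ψ sI) (J := ψ sJ) (by rw [← map_mul, sI_sq, map_neg_one hψ])
    (by rw [← map_mul, sJ_sq, map_neg_one hψ])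
    (by rw [← map_mul, sI_sJ, map_neg hψ, map_mul]) hxy (hx _) (hy _) (hx _) (hy _) h

/-- No root of unity of prime order at least `7` commutes with the image. -/
theorem no_commuting_root [CharZero D] {z : D} {l : ℕ} (hl : l.Prime) (h7 : 7 ≤ l)
    (hz : z ^ l = 1) (hz1 : z ≠ 1) (hc : ∀ t, z * ψ t = ψ t * z) : False := by
  have hdz : sqrtFive ψ * z = z * sqrtFive ψ := by
    have : z * phi ψ = phi ψ * z := by
      rw [phi, mul_neg, neg_mul, mul_add, add_mul, hc, hc]
    rw [sqrtFive, two_mul, mul_sub, sub_mul, mul_add, add_mul, this, mul_one, one_mul]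
  obtain ⟨x, y, hxy, h, hcom⟩ := exists_two_squares hdz (sqrtFive_sq hψ) hl h7 hz hz1
  exact false_of_commuting hψ hxy h
    (fun t => (hcom (ψ t) (sqrtFive_commute hψ t) (hc t).symm).1)
    (fun t => (hcom (ψ t) (sqrtFive_commute hψ t) (hc t).symm).2)

end Main

section IndexTwo

variable {D : Type*} [DivisionRing D] {H : Type*} [Group H] [Finite H]

/-- The image of `SL(2, 5)` has no normal overgroup of index two. -/
theorem no_index_two [CharZero D] (χ : H →* D) (hχ : Function.Injective χ) (ι : T5 →* H)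
    (hι : Function.Injective ι) (hn : ι.range.Normal) (h2 : ι.range.index = 2) : False := by
  set ψ := χ.comp ι with hψdef
  have hψ : Function.Injective ψ := hχ.comp hι
  set S := ι.range with hS
  have hmul : ∀ a b : H, a * b ∈ S ↔ (a ∈ S ↔ b ∈ S) := fun a b =>
    Subgroup.mul_mem_iff_of_index_two h2
  have hinvmul : ∀ a : H, χ a * χ a⁻¹ = 1 ∧ χ a⁻¹ * χ a = 1 := fun a => by
    constructor <;> rw [← map_mul] <;> simp
  have hconj : ∀ (g : H) (t : T5), ∃ t' : T5, ι t' = g * ι t * g⁻¹ := fun g t =>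
    hn.conj_mem (ι t) ⟨t, rfl⟩ g
  have hsub : ∀ g : H, g ∉ S → ∀ t : T5, ι t * g ∉ S := fun g hg t h =>
    hg (((hmul _ _).mp h).mp ⟨t, rfl⟩)
  -- an element outside `S` cannot centralize `sqrtFive`
  have stepA : ∀ g : H, g ∉ S → χ g * phi ψ ≠ phi ψ * χ g := by
    intro g₀ hg₀ hfix₀
    haveI : Fact (Nat.Prime 5) := ⟨Nat.prime_five⟩
    have hoU : orderOf sU = 5 := orderOf_eq_prime sU_pow_five sU_ne_one
    obtain ⟨t₁, ht₁⟩ := hconj g₀ sU
    have hot₁ : orderOf t₁ = 5 := by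
      rw [← orderOf_injective ι hι, ht₁]
      show orderOf (MulAut.conj g₀ (ι sU)) = 5
      rw [MulEquiv.orderOf_eq, orderOf_injective ι hι, hoU]
    obtain ⟨s, hs⟩ := exists_conj_zpowers (Or.inr rfl) hoU hot₁
    obtain ⟨k, hk⟩ := Subgroup.mem_zpowers_iff.mp hs
    set g₁ := ι s * g₀ with hg₁
    have hfix : ∀ g : H, (∃ t, g = ι t * g₀) → χ g * phi ψ = phi ψ * χ g := by
      rintro g ⟨t, rfl⟩
      rw [map_mul, mul_assoc, hfix₀, ← mul_assoc,
        show χ (ι t) = ψ t from rfl, phi_commute hψ, mul_assoc]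
    have hconjU : g₁ * ι sU * g₁⁻¹ = ι sU ^ k := by
      rw [← map_zpow, hk, map_mul, map_mul, ht₁, map_inv, hg₁]
      group
    have hphi : ∀ g : H, χ g * phi ψ = phi ψ * χ g →
        phi ψ = -(χ (g * ι sU * g⁻¹) + χ (g * ι sU * g⁻¹)⁻¹) := by
      intro g hg
      have e : (g * ι sU * g⁻¹)⁻¹ = g * ι sU⁻¹ * g⁻¹ := by rw [map_inv]; group
      rw [e, map_mul, map_mul, map_mul, map_mul, ← add_mul, ← mul_add, ← neg_mul, ← mul_neg,
        show -(χ (ι sU) + χ (ι sU⁻¹)) = phi ψ from rfl, hg, mul_assoc, (hinvmul g).1, mul_one]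
    -- the exponent is `±1`
    have hkk : g₁ * ι sU * g₁⁻¹ = ι sU ∨ g₁ * ι sU * g₁⁻¹ = ι sU⁻¹ := by
      have h5 : ι sU ^ (5 : ℤ) = 1 := by
        rw [← map_zpow, show (5 : ℤ) = ((5 : ℕ) : ℤ) from rfl, zpow_natCast, sU_pow_five, map_one]
      have hkm : ι sU ^ k = ι sU ^ (k % 5) := by
        conv_lhs => rw [← Int.emod_add_mul_ediv k 5, _root_.zpow_add, _root_.zpow_mul, h5, _root_.one_zpow, mul_one]
      rw [hconjU, hkm]
      have hr := Int.emod_lt_of_pos k (show (0 : ℤ) < 5 by norm_num)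
      have hr0 := Int.emod_nonneg k (show (5 : ℤ) ≠ 0 by norm_num)
      have hphi1 := hphi g₁ (hfix g₁ ⟨s, rfl⟩)
      rw [hconjU, hkm] at hphi1
      interval_cases hcase : k % 5
      · exfalso
        rw [hkm, zpow_zero] at hconjU
        have : ι sU = 1 := by simpa using hconjU
        exact sU_ne_one (hι (this.trans (map_one ι).symm))
      · left; rw [zpow_one]
      · exfalso
        have e : (ι sU ^ (2 : ℤ))⁻¹ = ι sU⁻¹ * ι sU⁻¹ := by rw [map_inv]; group
        rw [e, zpow_two, map_mul, map_mul] at hphi1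
        exact sq_add_sq_ne hψ (neg_eq_iff_eq_neg.mp hphi1.symm)
      · exfalso
        have e3 : ι sU ^ (3 : ℤ) = (ι sU ^ (2 : ℤ))⁻¹ := by
          rw [← mul_left_inj (ι sU ^ (2 : ℤ)), inv_mul_cancel, ← _root_.zpow_add]
          exact h5
        have e : (ι sU ^ (2 : ℤ))⁻¹ = ι sU⁻¹ * ι sU⁻¹ := by rw [map_inv]; group
        rw [e3, inv_inv, e, zpow_two, map_mul, map_mul, add_comm] at hphi1
        exact sq_add_sq_ne hψ (neg_eq_iff_eq_neg.mp hphi1.symm)
      · right
        rw [map_inv, eq_inv_iff_mul_eq_one, ← _root_.zpow_add_one]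
        exact h5
    -- commute with `sU`
    obtain ⟨c₁, hc₁, hcU⟩ : ∃ c : H, (∃ t, c = ι t * g₀) ∧ c * ι sU * c⁻¹ = ι sU := by
      rcases hkk with h | h
      · exact ⟨g₁, ⟨s, rfl⟩, h⟩
      · refine ⟨ι sJ * g₁, ⟨sJ * s, by rw [map_mul, mul_assoc]⟩, ?_⟩
        calc ι sJ * g₁ * ι sU * (ι sJ * g₁)⁻¹ = ι sJ * (g₁ * ι sU * g₁⁻¹) * (ι sJ)⁻¹ := by group
          _ = ι ((sJ * sU * sJ⁻¹)⁻¹) := by rw [h, map_inv, map_inv, map_mul, map_mul, map_inv]; group
          _ = ι sU := by rw [sJ_conj_sU, inv_inv]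
    -- commute with `sL`
    obtain ⟨t₂, ht₂⟩ := hconj c₁ sL
    have ht₂5 : t₂ ^ 5 = 1 := hι (by rw [map_pow, ht₂, conj_pow, ← map_pow, sL_pow_five, map_one]; group)
    rcases order_five_cases t₂ ht₂5 with h | ⟨j, m, hjm⟩
    · refine not_commute_sU_sL (hι ?_)
      have h' := congrArg ι h
      rw [map_mul, map_mul, ht₂, ← hcU] at h'
      have h'' : c₁ * (ι sL * ι sU) * c₁⁻¹ = c₁ * (ι sU * ι sL) * c₁⁻¹ := by
        simpa [mul_assoc] using h'
      rw [map_mul, map_mul]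
      exact (mul_left_cancel (mul_right_cancel h'')).symm
    set c := (ι sU ^ j)⁻¹ * c₁ with hc
    have hcS : ∃ t, c = ι t * g₀ := by
      obtain ⟨t, rfl⟩ := hc₁
      exact ⟨(sU ^ j)⁻¹ * t, by rw [hc, map_mul, map_inv, map_pow, mul_assoc]⟩
    have hcU' : c * ι sU * c⁻¹ = ι sU := by
      calc c * ι sU * c⁻¹ = (ι sU ^ j)⁻¹ * (c₁ * ι sU * c₁⁻¹) * ι sU ^ j := by rw [hc]; group
        _ = ι sU := by rw [hcU]; group
    have hcL : c * ι sL * c⁻¹ = ι sL ^ m := by
      calc c * ι sL * c⁻¹ = (ι sU ^ j)⁻¹ * (c₁ * ι sL * c₁⁻¹) * ι sU ^ j := by rw [hc]; group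
        _ = ι sL ^ m := by rw [← ht₂, hjm, map_mul, map_mul, map_inv, map_pow, map_pow]; group
    obtain ⟨tc, htc⟩ := hcS
    have hcfix : χ c * phi ψ = phi ψ * χ c := hfix c ⟨tc, htc⟩
    -- `sL` is a conjugate of `sU⁻¹`, so the exponent is `±1`
    have hIL : ι sI * (ι sU)⁻¹ * (ι sI)⁻¹ = ι sL := by rw [sL_eq, map_mul, map_mul, map_inv, map_inv]
    set e := (ι sI)⁻¹ * c * ι sI with he
    have heU : e * ι sU * e⁻¹ = ι sU ^ (m : ℤ) := by
      have h1 : ι sU = (ι sI)⁻¹ * (ι sL)⁻¹ * ι sI := by rw [← hIL]; group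
      have h2 : (c * ι sL * c⁻¹)⁻¹ = c * (ι sL)⁻¹ * c⁻¹ := by group
      calc e * ι sU * e⁻¹ = (ι sI)⁻¹ * (c * (ι sL)⁻¹ * c⁻¹) * ι sI := by rw [he, h1]; group
        _ = (ι sI)⁻¹ * ((ι sL ^ m)⁻¹) * ι sI := by rw [← h2, hcL]
        _ = ι sU ^ (m : ℤ) := by rw [← hIL, zpow_natCast, conj_pow, inv_pow]; group
    have hm : ι sL ^ m = ι sL ∨ ι sL ^ m = (ι sL)⁻¹ := by
      have hefix : χ e * phi ψ = phi ψ * χ e := by
        rw [he, map_mul, map_mul, mul_assoc, show χ (ι sI) = ψ sI from rfl, phi_commute hψ,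
          ← mul_assoc, mul_assoc (χ (ι sI)⁻¹) (χ c), hcfix, ← mul_assoc,
          show (ι sI)⁻¹ = ι sI⁻¹ from (map_inv ι sI).symm, show χ (ι sI⁻¹) = ψ sI⁻¹ from rfl,
          phi_commute hψ]
        simp only [mul_assoc]
      have h5 : ι sU ^ 5 = 1 := by rw [← map_pow, sU_pow_five, map_one]
      have hm5 : ι sU ^ m = ι sU ^ (m % 5) := pow_eq_pow_mod m h5
      have hLm : ι sL ^ m = ι sL ^ (m % 5) :=
        pow_eq_pow_mod m (by rw [← map_pow, sL_pow_five, map_one])
      have hp := hphi e hefix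
      rw [heU, zpow_natCast, hm5] at hp
      rw [hLm]
      have hlt := Nat.mod_lt m (show 5 > 0 by norm_num)
      have hbad : χ (ι sU * ι sU) + χ (ι sU * ι sU)⁻¹ ≠ -phi ψ := by
        intro hb
        have e : (ι sU * ι sU)⁻¹ = ι sU⁻¹ * ι sU⁻¹ := by rw [map_inv]; group
        rw [e, map_mul, map_mul] at hb
        exact sq_add_sq_ne hψ hb
      interval_cases hcase : m % 5
      · exfalso
        rw [pow_zero] at hLm
        rw [hLm] at hcL
        exact sL_ne_one (hι ((by simpa using hcL : ι sL = 1).trans (map_one ι).symm))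
      · exact Or.inl (pow_one _)
      · exact absurd (by rw [← pow_two, eq_neg_iff_add_eq_zero]; rw [hp]; abel) hbad
      · refine absurd ?_ hbad
        have e3 : ι sU ^ 3 = (ι sU * ι sU)⁻¹ := by
          rw [← mul_left_inj (ι sU * ι sU), inv_mul_cancel, ← pow_two, ← pow_add]
          exact h5
        rw [e3, inv_inv] at hp
        rw [hp, neg_neg, add_comm]
      · right
        rw [eq_inv_iff_mul_eq_one, ← pow_succ, ← map_pow, sL_pow_five, map_one]
    rcases hm with hm | hm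
    · -- `c` centralizes `S`
      rw [hm] at hcL
      have hcent : ∀ t : T5, c * ι t = ι t * c := by
        let K : Subgroup T5 := (Subgroup.centralizer ({c} : Set H)).comap ι
        have hK : Subgroup.closure ({sU, sL} : Set T5) ≤ K := (Subgroup.closure_le _).mpr (by
          rintro a (rfl | rfl) <;>
            refine Subgroup.mem_centralizer_singleton_iff.mpr (Eq.symm ?_)
          · exact mul_inv_eq_iff_eq_mul.mp hcU'
          · exact mul_inv_eq_iff_eq_mul.mp hcL)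
        intro t
        exact (Subgroup.mem_centralizer_singleton_iff.mp (hK (closure_eq_top ▸ Subgroup.mem_top t))).symm
      have hcnot : c ∉ S := htc ▸ hsub g₀ hg₀ tc
      obtain ⟨t₃, ht₃⟩ : c * c ∈ S := (hmul c c).mpr Iff.rfl
      have ht₃c : ∀ t : T5, t₃ * t = t * t₃ := fun t => hι (by
        rw [map_mul, map_mul, ht₃, mul_assoc, hcent, ← mul_assoc, hcent, mul_assoc])
      have hx : χ c * χ c = ψ t₃ := by rw [← map_mul, ← ht₃]; rfl
      rcases eq_one_or_neg_one t₃ (ht₃c _) (ht₃c _) with rfl | rfl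
      · rw [map_one] at hx
        rcases mul_self_eq_one_iff.mp hx with h | h
        · exact hcnot (hχ (h.trans (map_one χ).symm) ▸ S.one_mem)
        · refine hcnot ⟨-1, hχ ?_⟩
          rw [h]
          exact map_neg_one hψ
      · rw [map_neg_one hψ] at hx
        refine false_of_commuting hψ (x := χ c) (y := 0) (by simp)
          (by rw [pow_two, hx]; simp) (fun t => ?_) fun t => by simp
        show χ c * χ (ι t) = χ (ι t) * χ c
        rw [← map_mul, hcent, map_mul]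
    · -- `c` inverts `sL`: impossible
      rw [hm] at hcL
      apply order_test.1
      apply hι
      have h1 : c * ι (sU * sL) * c⁻¹ = ι (sU * sL⁻¹) := by
        rw [map_mul, map_mul, map_inv, ← hcL]
        nth_rewrite 2 [← hcU']
        group
      have h2 : (c * ι (sU * sL) * c⁻¹) ^ 6 = 1 := by rw [h1, ← map_pow, order_test.2, map_one]
      rw [conj_pow, conj_eq_one_iff] at h2
      rw [map_pow, map_one, h2]
  -- an element of order four outside `S`
  obtain ⟨g₀, hg₀⟩ : ∃ g : H, g ∉ S := by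
    by_contra h
    push Not at h
    rw [Subgroup.eq_top_iff' S |>.mpr h, Subgroup.index_top] at h2
    exact absurd h2 (by norm_num)
  haveI : Fact (Nat.Prime 3) := ⟨Nat.prime_three⟩
  have hoB : orderOf sB = 3 :=
    orderOf_eq_prime (by rw [pow_succ, pow_two, mul_assoc]; exact sB_cube) sB_ne_one
  obtain ⟨t₁, ht₁⟩ := hconj g₀ sB
  have hot₁ : orderOf t₁ = 3 := by
    rw [← orderOf_injective ι hι, ht₁]
    show orderOf (MulAut.conj g₀ (ι sB)) = 3
    rw [MulEquiv.orderOf_eq, orderOf_injective ι hι, hoB]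
  obtain ⟨s, hs⟩ := exists_conj_zpowers (Or.inl rfl) hoB hot₁
  have hst : s * t₁ * s⁻¹ = sB ∨ s * t₁ * s⁻¹ = sB⁻¹ := by
    obtain ⟨k, hk⟩ := Subgroup.mem_zpowers_iff.mp hs
    have hne : s * t₁ * s⁻¹ ≠ 1 := fun h => by
      rw [conj_eq_one_iff] at h
      rw [h, orderOf_one] at hot₁
      norm_num at hot₁
    have hr := Int.emod_lt_of_pos k (show (0 : ℤ) < 3 by norm_num)
    have hr0 := Int.emod_nonneg k (show (3 : ℤ) ≠ 0 by norm_num)
    have hkm : sB ^ k = sB ^ (k % 3) := by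
      rw [show (3 : ℤ) = ((orderOf sB : ℕ) : ℤ) by rw [hoB]; rfl, zpow_mod_orderOf]
    rw [← hk, hkm] at hne ⊢
    interval_cases hcase : k % 3
    · exact absurd (zpow_zero _) hne
    · exact Or.inl (zpow_one _)
    · right
      rw [eq_inv_iff_mul_eq_one, ← _root_.zpow_add_one]
      show sB ^ ((3 : ℕ) : ℤ) = 1
      rw [zpow_natCast, ← hoB, pow_orderOf_eq_one]
  obtain ⟨x, hxS, hxB⟩ : ∃ x : H, x ∉ S ∧ x * ι sB * x⁻¹ = ι sB := by
    have e : ι s * g₀ * ι sB * (ι s * g₀)⁻¹ = ι (s * t₁ * s⁻¹) := by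
      rw [map_mul, map_mul, ht₁, map_inv]; group
    rcases hst with h | h
    · exact ⟨ι s * g₀, hsub g₀ hg₀ s, by rw [e, h]⟩
    · obtain ⟨r, hr⟩ := exists_inv_sB
      refine ⟨ι (r * s) * g₀, hsub g₀ hg₀ _, ?_⟩
      calc ι (r * s) * g₀ * ι sB * (ι (r * s) * g₀)⁻¹
          = ι r * (ι s * g₀ * ι sB * (ι s * g₀)⁻¹) * (ι r)⁻¹ := by rw [map_mul]; group
        _ = ι ((r * sB * r⁻¹)⁻¹) := by rw [e, h, map_inv, map_inv, map_mul, map_mul, map_inv]; group
        _ = ι sB := by rw [hr, inv_inv]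
  obtain ⟨t₂, ht₂⟩ : x * x ∈ S := (hmul x x).mpr Iff.rfl
  have ht₂c : t₂ * sB = sB * t₂ := hι (by
    rw [map_mul, map_mul, ht₂]
    have := mul_inv_eq_iff_eq_mul.mp hxB
    rw [mul_assoc, this, ← mul_assoc, this, mul_assoc])
  set g := x * (x * x) with hg
  have hgS : g ∉ S := fun h => hxS (((hmul _ _).mp h).mpr ⟨t₂, ht₂⟩)
  have hg2 : χ g * χ g = -1 := by
    have e1 : g * g = (x * x) * (x * x) * (x * x) := by rw [hg]; group
    have e2 : (χ g * χ g) * (χ g * χ g) = 1 := by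
      rw [← map_mul, ← map_mul, e1, ← ht₂]
      simp only [← map_mul]
      rw [show t₂ * t₂ * t₂ * (t₂ * t₂ * t₂) = t₂ ^ 6 by
        simp only [pow_succ, pow_zero, one_mul, mul_assoc], pow_six_of_commute t₂ ht₂c,
        map_one, map_one]
    refine (mul_self_eq_one_iff.mp e2).resolve_left fun h => hgS ?_
    rcases mul_self_eq_one_iff.mp h with h | h
    · exact hχ (h.trans (map_one χ).symm) ▸ S.one_mem
    · exact ⟨-1, hχ (by rw [h]; exact map_neg_one hψ)⟩
  -- `g` conjugates `phi` to its algebraic conjugate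
  obtain ⟨u, hu⟩ := hconj g sU
  set p' := χ g * phi ψ * χ g⁻¹ with hp'
  have hp'eq : p' = -(ψ u + ψ u⁻¹) := by
    rw [hp', phi, mul_neg, neg_mul, mul_add, add_mul]
    show -(χ g * χ (ι sU) * χ g⁻¹ + χ g * χ (ι sU⁻¹) * χ g⁻¹) = -(χ (ι u) + χ (ι u⁻¹))
    rw [← map_mul, ← map_mul, ← map_mul, ← map_mul, map_inv ι sU, map_inv ι u, hu]
    congr 3
    group
  have hp'c : p' * phi ψ = phi ψ * p' := by
    rw [hp'eq, neg_mul, mul_neg, add_mul, mul_add, phi_commute hψ, phi_commute hψ]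
  have hp'sq : p' * p' = p' + 1 := by
    have : p' * p' = χ g * (phi ψ * phi ψ) * χ g⁻¹ := by
      rw [hp']
      simp only [mul_assoc]
      rw [← mul_assoc (χ g⁻¹) (χ g), (hinvmul g).2, one_mul]
    rw [this, phi_sq hψ, mul_add, add_mul, mul_one, (hinvmul g).1]
  have hprod : (p' - phi ψ) * (p' + phi ψ - 1) = 0 := by
    have hphisq := phi_sq hψ
    simp only [mul_sub, sub_mul, mul_add, mul_one, hp'c, hp'sq, hphisq]
    abel
  rcases mul_eq_zero.mp hprod with h | h
  · apply stepA g hgS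
    have h' := sub_eq_zero.mp h
    nth_rewrite 2 [← h']
    rw [hp', mul_assoc (χ g * phi ψ), (hinvmul g).2, mul_one]
  · have hps : p' = 1 - phi ψ := by rw [← sub_eq_zero, ← h]; abel
    have hgphi : χ g * phi ψ = (1 - phi ψ) * χ g := by
      rw [← hps, hp', mul_assoc (χ g * phi ψ), (hinvmul g).2, mul_one]
    refine false_of_sqrt_five hg2 (sqrtFive_sq hψ) ?_
    rw [sqrtFive, two_mul, mul_sub, mul_add, hgphi]
    noncomm_ring

end IndexTwo

end Cfsg.Agent.DivRingSubgroup
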