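import Mathlib.NumberTheory.LSeries.PrimesInAP
import Mathlib.NumberTheory.LegendreSymbol.QuadraticReciprocity
import Mathlib.FieldTheory.IsAlgClosed.AlgebraicClosure
import Mathlib.RingTheory.AdjoinRoot
import Mathlib.FieldTheory.KummerExtension
import Mathlib.LinearAlgebra.Matrix.ToLin
import Mathlib.LinearAlgebra.Matrix.Polynomial
import Mathlib.RingTheory.RootsOfUnity.PrimitiveRoots
import Mathlib.RingTheory.Polynomial.Cyclotomic.Basic
import Mathlib.Data.Nat.ChineseRemainder
import Mathlib.Tactic.LinearCombination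
import Mathlib.Tactic.Linarith
import Mathlib.Tactic.FieldSimp
import Mathlib.Tactic.Ring

/-!
# `-1` as a sum of two squares in `ℚ(√5, ζ_ℓ)`

In a field of characteristic zero containing a square root of `5` and a root of unity of prime
order `ℓ ≥ 3`, the element `-1` is a sum of two squares.

Proof: there is a prime `m ≡ 3 (mod 4)`, `m ≡ 2 (mod 5)`, `m ≡ -1 (mod ℓ)`. It is a sum of two
squares in `ℚ(√5)` by descent. Over an extension `M` of odd degree containing `c = ζ + ζ⁻¹` for a
primitive `m`-th root `ζ`, the geometric sum `1 + y + ... + y^(m-1)` is of the form `A² + d B²` with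
`d` equal to `m` up to squares; for `y ^ ℓ = 1` it equals `-y⁻¹`. Finally descend from `M` by a
determinant.
-/

namespace Cfsg.Agent.DivRingSubgroup

open Polynomial

variable {F : Type*} [Field F]

/-- Sum of two squares. -/
def SumTwoSq (a : F) : Prop := ∃ x y : F, x ^ 2 + y ^ 2 = a

theorem SumTwoSq.mul {a b : F} (ha : SumTwoSq a) (hb : SumTwoSq b) : SumTwoSq (a * b) := by
  obtain ⟨x, y, rfl⟩ := ha
  obtain ⟨u, v, rfl⟩ := hb
  exact ⟨x * u - y * v, x * v + y * u, by ring⟩

theorem SumTwoSq.inv {a : F} (ha : SumTwoSq a) : SumTwoSq a⁻¹ := by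
  obtain ⟨x, y, rfl⟩ := ha
  by_cases h : x ^ 2 + y ^ 2 = 0
  · exact ⟨0, 0, by rw [h]; simp⟩
  · exact ⟨x / (x ^ 2 + y ^ 2), y / (x ^ 2 + y ^ 2), by field_simp⟩

theorem sumTwoSq_sq (a : F) : SumTwoSq (a ^ 2) := ⟨a, 0, by ring⟩

/-- Three squares adding to `-1` give two squares adding to `-1`. -/
theorem sumTwoSq_neg_one_of_three {x b : F} (hb : SumTwoSq b) (h : x ^ 2 + b = -1) :
    SumTwoSq (-1 : F) := by
  by_cases hx : x ^ 2 + 1 = 0
  · exact ⟨x, 0, by linear_combination hx⟩
  · have h1 : SumTwoSq (x ^ 2 + 1) := ⟨x, 1, by ring⟩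
    have e : (-1 : F) = b * (x ^ 2 + 1)⁻¹ := by
      field_simp
      linear_combination -h
    exact e ▸ hb.mul h1.inv

/-- A prime modulo which `-5` is a square is a sum of two squares in a field containing `√5`. -/
theorem sumTwoSq_prime [CharZero F] {s : F} (hs : s ^ 2 = 5) :
    ∀ q : ℕ, q.Prime → (∃ a : ℕ, q ∣ a ^ 2 + 5) → SumTwoSq (q : F) := by
  intro q
  induction q using Nat.strong_induction_on with
  | _ q ih =>
    intro hq ⟨a, ha⟩
    rcases hq.eq_two_or_odd with rfl | hodd
    · exact ⟨1, 1, by norm_num⟩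
    have hq3 : 3 ≤ q := by have := hq.two_le; omega
    obtain ⟨t, ht, htd⟩ : ∃ t : ℕ, 2 * t < q ∧ q ∣ t ^ 2 + 5 := by
      have h0 : q ∣ (a % q) ^ 2 + 5 := by
        have e := (Nat.ModEq.add_right 5 ((Nat.mod_modEq a q).pow 2))
        exact (Nat.modEq_zero_iff_dvd.mp (e.trans (Nat.modEq_zero_iff_dvd.mpr ha)))
      have hlt := Nat.mod_lt a (show q > 0 by omega)
      by_cases hsmall : 2 * (a % q) < q
      · exact ⟨a % q, hsmall, h0⟩
      · refine ⟨q - a % q, by omega, ?_⟩
        obtain ⟨k, hk⟩ : ∃ k, q = a % q + k := ⟨q - a % q, by omega⟩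
        rw [show q - a % q = k by omega]
        obtain ⟨l, hl⟩ := h0
        refine Int.natCast_dvd_natCast.mp ⟨(l : ℤ) + q - 2 * (a % q : ℕ), ?_⟩
        have hl' : ((a % q : ℕ) : ℤ) ^ 2 + 5 = q * l := by exact_mod_cast hl
        have hk' : (q : ℤ) = (a % q : ℕ) + k := by exact_mod_cast hk
        have hk'' : (k : ℤ) = q - (a % q : ℕ) := by omega
        push_cast
        push_cast at hl' hk''
        rw [hk'']
        linear_combination hl'
    obtain ⟨r, hr⟩ := htd
    have hr0 : r ≠ 0 := by rintro rfl; simp at hr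
    have hrq : r < q := by
      by_contra h
      have : q * q ≤ q * r := Nat.mul_le_mul_left q (not_lt.mp h)
      nlinarith
    have hrs : SumTwoSq (r : F) := by
      have key : ∀ n : ℕ, n ∣ r → n ≠ 0 → SumTwoSq (n : F) := by
        intro n
        induction n using Nat.recOnMul with
        | zero => exact fun _ h => absurd rfl h
        | one => exact fun _ _ => ⟨1, 0, by norm_num⟩
        | prime p hp =>
          intro hpr _
          exact ih p (lt_of_le_of_lt (Nat.le_of_dvd (Nat.pos_of_ne_zero hr0) hpr) hrq) hp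
            ⟨t, hr ▸ hpr.mul_left q⟩
        | mul x y hx hy =>
          intro hd hne
          rw [Nat.cast_mul]
          exact (hx (dvd_of_mul_right_dvd hd) (left_ne_zero_of_mul hne)).mul
            (hy (dvd_of_mul_left_dvd hd) (right_ne_zero_of_mul hne))
      exact key r dvd_rfl hr0
    have h1 : SumTwoSq ((t : F) ^ 2 + 5) := ⟨t, s, by rw [hs]⟩
    have e : (q : F) = ((t : F) ^ 2 + 5) * (r : F)⁻¹ := by
      have : ((t : F) ^ 2 + 5) = (q : F) * (r : F) := by exact_mod_cast hr
      rw [this, mul_assoc, mul_inv_cancel₀ (Nat.cast_ne_zero.mpr hr0), mul_one]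
    exact e ▸ h1.mul hrs.inv

/-- The auxiliary prime. -/
theorem exists_aux_prime {l : ℕ} (hl : l.Prime) (h7 : 7 ≤ l) :
    ∃ m : ℕ, m.Prime ∧ m % 4 = 3 ∧ l ∣ m + 1 ∧ ∃ a : ℕ, m ∣ a ^ 2 + 5 := by
  have hc20 : Nat.Coprime 20 l := by
    refine (Nat.Prime.coprime_iff_not_dvd hl).mpr (fun h => ?_) |>.symm
    have := Nat.le_of_dvd (by norm_num) h
    interval_cases l <;> first | omega | exact absurd hl (by decide +kernel) | exact absurd h (by decide +kernel)
  obtain ⟨c, hc1, hc2⟩ := Nat.chineseRemainder hc20 7 (l - 1)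
  have hcop : Nat.Coprime c (20 * l) := by
    refine Nat.Coprime.mul_right ?_ ?_
    · show Nat.gcd c 20 = 1
      rw [hc1.gcd_eq]
      rfl
    · show Nat.gcd c l = 1
      rw [hc2.gcd_eq]
      exact (Nat.coprime_self_sub_left (by omega)).mpr (Nat.coprime_one_left l)
  obtain ⟨m, hm, hmp, hmod⟩ :=
    Nat.forall_exists_prime_gt_and_modEq 20 (q := 20 * l) (a := c) (by omega) hcop
  have hm20 : m % 20 = 7 := (Nat.ModEq.of_mul_right l hmod).trans hc1
  have hml : m % l = (l - 1) % l := (Nat.ModEq.of_mul_left 20 hmod).trans hc2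
  refine ⟨m, hmp, by omega, ?_, ?_⟩
  · refine Nat.modEq_zero_iff_dvd.mp ((Nat.ModEq.add_right 1 hml).trans ?_)
    rw [show l - 1 + 1 = l by omega]
    exact Nat.modEq_zero_iff_dvd.mpr dvd_rfl
  · haveI : Fact m.Prime := ⟨hmp⟩
    haveI : Fact (Nat.Prime 5) := ⟨Nat.prime_five⟩
    have h5 : ¬ IsSquare ((5 : ℕ) : ZMod m) := by
      rw [← ZMod.exists_sq_eq_prime_iff_of_mod_four_eq_one (p := 5) (q := m) (by norm_num) (by omega),
        ← ZMod.natCast_mod m 5, show m % 5 = 2 by omega]
      exact (by decide +revert : ¬ IsSquare (2 : ZMod 5)) ∘ fun h => h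
    have hm1 : ¬ IsSquare (-1 : ZMod m) := by
      rw [ZMod.exists_sq_eq_neg_one_iff]
      omega
    have hsq : IsSquare ((-1 : ZMod m) * ((5 : ℕ) : ZMod m)) := by
      have hne : ((5 : ℕ) : ZMod m) ≠ 0 := fun h => h5 (h ▸ IsSquare.zero)
      rw [← quadraticChar_one_iff_isSquare (mul_ne_zero (by simp) hne), map_mul,
        quadraticChar_neg_one_iff_not_isSquare.mpr hm1, quadraticChar_neg_one_iff_not_isSquare.mpr h5]
      rfl
    obtain ⟨u, hu⟩ := hsq
    refine ⟨u.val, (ZMod.natCast_eq_zero_iff _ _).mp ?_⟩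
    push_cast
    rw [ZMod.natCast_zmod_val, pow_two, ← hu]
    push_cast
    ring

/-- Descent of `-1 = x² + y²` from an extension of odd degree. -/
theorem sumTwoSq_neg_one_descent {M : Type*} [Field M] [Algebra F M] [FiniteDimensional F M]
    (hodd : Odd (Module.finrank F M)) (h : SumTwoSq (-1 : M)) : SumTwoSq (-1 : F) := by
  classical
  obtain ⟨x, y, hxy⟩ := h
  let b := Module.finBasis F M
  set A := Algebra.leftMulMatrix b x with hA
  set B := Algebra.leftMulMatrix b y with hB
  have hAB : A ^ 2 + B ^ 2 = -1 := by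
    rw [hA, hB, ← map_pow, ← map_pow, ← map_add, hxy, map_neg, map_one]
  have hcomm : A * B = B * A := by rw [hA, hB, ← map_mul, ← map_mul, mul_comm]
  let P : F[X] := (A.map C + (X : F[X]) • B.map C).det
  have hev : ∀ (E : Type _) [Field E] [Algebra F E] (t : E),
      P.eval₂ (algebraMap F E) t = (A.map (algebraMap F E) + t • B.map (algebraMap F E)).det := by
    intro E _ _ t
    rw [← coe_eval₂RingHom, RingHom.map_det]
    congr 1
    ext i j
    simp [Matrix.map_apply]
    ring
  let E := AlgebraicClosure F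
  obtain ⟨i, hi⟩ := IsAlgClosed.exists_pow_nat_eq (-1 : E) two_pos
  let f : Matrix (Fin (Module.finrank F M)) (Fin (Module.finrank F M)) F →+*
      Matrix (Fin (Module.finrank F M)) (Fin (Module.finrank F M)) E := (algebraMap F E).mapMatrix
  have hprod : P.eval₂ (algebraMap F E) i * P.eval₂ (algebraMap F E) (-i) = -1 := by
    rw [hev, hev, ← Matrix.det_mul]
    have e : (f A + i • f B) * (f A + (-i) • f B) = -1 := by
      have hc : f A * f B = f B * f A :=
        (map_mul f A B).symm.trans ((congrArg f hcomm).trans (map_mul f B A))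
      have h2 : f A * f A + f B * f B = -1 := by
        have h0 := congrArg f hAB
        rw [map_add, map_pow, map_pow, map_neg, map_one, pow_two, pow_two] at h0
        exact h0
      rw [add_mul, mul_add, mul_add, smul_mul_assoc, mul_smul_comm, smul_mul_assoc, mul_smul_comm,
        smul_smul, ← hc, neg_smul, show i * -i = 1 by rw [mul_neg, ← pow_two, hi, neg_neg],
        one_smul, ← h2]
      abel
    rw [show A.map (algebraMap F E) = f A from rfl, show B.map (algebraMap F E) = f B from rfl, e,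
      Matrix.det_neg, Matrix.det_one, mul_one, Fintype.card_fin, hodd.neg_one_pow]
  have hmon : (X ^ 2 + C (1 : F)).Monic := monic_X_pow_add_C _ two_ne_zero
  set r := P %ₘ (X ^ 2 + C (1 : F)) with hr
  have hroot : ∀ t : E, t ^ 2 = -1 →
      P.eval₂ (algebraMap F E) t = algebraMap F E (r.coeff 0) + algebraMap F E (r.coeff 1) * t := by
    intro t ht
    conv_lhs => rw [← modByMonic_add_div P (X ^ 2 + C (1 : F))]
    rw [eval₂_add, eval₂_mul, eval₂_add, eval₂_pow, eval₂_X, eval₂_C, map_one (algebraMap F E), ht,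
      neg_add_cancel, zero_mul, add_zero, ← hr]
    have hdeg : r.degree ≤ 1 := by
      have h1 : r.degree < (X ^ 2 + C (1 : F)).degree := degree_modByMonic_lt _ hmon
      rw [degree_X_pow_add_C two_pos] at h1
      exact Order.le_of_lt_succ h1
    conv_lhs => rw [eq_X_add_C_of_degree_le_one hdeg]
    norm_num [add_comm]
  rw [hroot i hi, hroot (-i) (by rw [neg_sq, hi])] at hprod
  refine ⟨r.coeff 0, r.coeff 1, (algebraMap F E).injective ?_⟩
  simp only [map_add, map_pow, map_neg, map_one]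
  linear_combination hprod + (algebraMap F E (r.coeff 1)) ^ 2 * hi

/-! ### The polynomials `ζ ^ k + ζ ^ (-k)` -/

/-- `ζ ^ k + ζ⁻¹ ^ k` in terms of `c = ζ + ζ⁻¹`. -/
def lucV {R : Type*} [CommRing R] (c : R) : ℕ → R
  | 0 => 2
  | 1 => c
  | n + 2 => c * lucV c (n + 1) - lucV c n

/-- The companion sequence. -/
def lucU {R : Type*} [CommRing R] (c : R) : ℕ → R
  | 0 => 0
  | 1 => 1
  | n + 2 => c * lucU c (n + 1) - lucU c n

theorem lucV_sq {R : Type*} [CommRing R] (c : R) (n : ℕ) :
    4 - lucV c n ^ 2 = (4 - c ^ 2) * lucU c n ^ 2 := by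
  have key : ∀ n, lucV c n = 2 * lucU c (n + 1) - c * lucU c n ∧
      lucU c (n + 1) ^ 2 - c * lucU c (n + 1) * lucU c n + lucU c n ^ 2 = 1 := by
    intro n
    induction n using Nat.twoStepInduction with
    | zero => simp [lucV, lucU]
    | one => refine ⟨?_, ?_⟩ <;> simp [lucV, lucU] <;> ring
    | more n h0 h1 =>
      refine ⟨?_, ?_⟩
      · simp only [lucV, lucU] at h1 ⊢
        linear_combination c * h1.1 - h0.1
      · simp only [lucU] at h1 ⊢
        linear_combination h1.2
  obtain ⟨h1, h2⟩ := key n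
  rw [h1]
  linear_combination -4 * h2

theorem lucV_eq {K : Type*} [Field K] {z : K} (hz : z ≠ 0) (n : ℕ) :
    lucV (z + z⁻¹) n = z ^ n + z⁻¹ ^ n := by
  induction n using Nat.twoStepInduction with
  | zero => simp [lucV]; norm_num
  | one => simp [lucV]
  | more n h0 h1 =>
    rw [lucV, h0, h1]
    have h : z * z⁻¹ = 1 := mul_inv_cancel₀ hz
    linear_combination (z ^ n + z⁻¹ ^ n) * h

theorem map_lucV {R S : Type*} [CommRing R] [CommRing S] (f : R →+* S) (c : R) (n : ℕ) :
    f (lucV c n) = lucV (f c) n := by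
  induction n using Nat.twoStepInduction with
  | zero => simp only [lucV]; exact map_ofNat f 2
  | one => simp [lucV]
  | more n h0 h1 => simp [lucV, h0, h1]

theorem lucV_X_spec : ∀ n : ℕ, 1 ≤ n → (lucV (X : F[X]) n).natDegree ≤ n ∧
    (lucV (X : F[X]) n).coeff n = 1 := by
  intro n
  induction n using Nat.twoStepInduction with
  | zero => intro h; omega
  | one => intro _; simp [lucV]
  | more n h0 h1 =>
    intro _
    obtain ⟨hd1, hc1⟩ := h1 (by omega)
    have hd0 : (lucV (X : F[X]) n).natDegree ≤ n := by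
      rcases Nat.eq_zero_or_pos n with rfl | hn
      · simp [lucV, show (2 : F[X]) = C 2 from rfl]
      · exact (h0 hn).1
    refine ⟨?_, ?_⟩
    · rw [lucV]
      refine (natDegree_sub_le _ _).trans (max_le ?_ (by omega))
      exact natDegree_mul_le.trans (by rw [natDegree_X]; omega)
    · rw [lucV, coeff_sub, show n + 2 = n + 1 + 1 from rfl, coeff_X_mul, hc1,
        coeff_eq_zero_of_natDegree_lt (by omega), sub_zero]

/-- The polynomial whose roots are `ζ + ζ⁻¹` for primitive `(2h+1)`-st roots `ζ`. -/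
noncomputable def sumPoly (F : Type*) [Field F] (h : ℕ) : F[X] :=
  1 + ∑ k ∈ Finset.range h, lucV (X : F[X]) (k + 1)

theorem sumPoly_spec (h : ℕ) : (sumPoly F h).natDegree = h ∧ sumPoly F h ≠ 0 := by
  have hd : (sumPoly F h).natDegree ≤ h := by
    refine (natDegree_add_le _ _).trans (max_le (by simp) ?_)
    refine natDegree_sum_le_of_forall_le _ _ fun k hk => ?_
    rw [Finset.mem_range] at hk
    exact ((lucV_X_spec (k + 1) (by omega)).1).trans (by omega)
  have hc : (sumPoly F h).coeff h = 1 := by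
    rcases h with _ | h
    · simp [sumPoly]
    rw [sumPoly, coeff_add, Finset.sum_range_succ, coeff_add, (lucV_X_spec (h + 1) (by omega)).2,
      finset_sum_coeff, Finset.sum_eq_zero fun k hk => ?_, coeff_one]
    · simp
    · rw [Finset.mem_range] at hk
      exact coeff_eq_zero_of_natDegree_lt
        (lt_of_le_of_lt (lucV_X_spec (k + 1) (by omega)).1 (by omega))
  refine ⟨le_antisymm hd (le_natDegree_of_ne_zero (by rw [hc]; exact one_ne_zero)), fun e => ?_⟩
  rw [e, coeff_zero] at hc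
  exact zero_ne_one hc

theorem exists_irreducible_odd : ∀ (n : ℕ) (P : F[X]), P.natDegree = n → Odd n →
    ∃ g : F[X], Irreducible g ∧ g ∣ P ∧ Odd g.natDegree := by
  intro n
  induction n using Nat.strong_induction_on with
  | _ n ih =>
    intro P hP hodd
    have hP0 : P ≠ 0 := by
      rintro rfl
      rw [natDegree_zero] at hP
      subst hP
      simp at hodd
    have hunit : ¬ IsUnit P := fun hu => by
      rw [natDegree_eq_zero_of_isUnit hu] at hP
      subst hP
      simp at hodd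
    obtain ⟨g, hg, r, hr⟩ := WfDvdMonoid.exists_irreducible_factor hunit hP0
    by_cases hgo : Odd g.natDegree
    · exact ⟨g, hg, ⟨r, hr⟩, hgo⟩
    have hr0 : r ≠ 0 := right_ne_zero_of_mul (hr ▸ hP0)
    rw [hr, natDegree_mul hg.ne_zero hr0] at hP
    have hgpos := hg.natDegree_pos
    have hro : Odd r.natDegree := by
      rw [← hP, Nat.odd_add] at hodd
      by_contra h
      exact hgo (hodd.mpr (Nat.not_odd_iff_even.mp h))
    obtain ⟨g', hg', hd, ho⟩ := ih r.natDegree (by omega) r rfl hro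
    exact ⟨g', hg', hd.trans ⟨g, hr.trans (mul_comm g r)⟩, ho⟩

theorem exists_norm_prod {ι : Type*} (S : Finset ι) {K : Type*} [CommRing K] (d : K) (f : ι → K)
    (hf : ∀ i ∈ S, ∃ A B : K, A ^ 2 + d * B ^ 2 = f i) :
    ∃ A B : K, A ^ 2 + d * B ^ 2 = ∏ i ∈ S, f i := by
  classical
  induction S using Finset.induction_on with
  | empty => exact ⟨1, 0, by simp⟩
  | @insert a S ha ih =>
    obtain ⟨A, B, h⟩ := ih fun i hi => hf i (Finset.mem_insert_of_mem hi)
    obtain ⟨A', B', h'⟩ := hf a (Finset.mem_insert_self a S)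
    refine ⟨A' * A - d * B' * B, A' * B + B' * A, ?_⟩
    rw [Finset.prod_insert ha, ← h, ← h']
    ring

/-- The geometric sum as a product of quadratics. -/
theorem geom_sum_eq_prod {K : Type*} [Field K] {h : ℕ} {z : K}
    (hz : IsPrimitiveRoot z (2 * h + 1)) (y : K) :
    ∑ k ∈ Finset.range (2 * h + 1), y ^ k =
      ∏ k ∈ Finset.range h, (y ^ 2 - (z ^ (k + 1) + z⁻¹ ^ (k + 1)) * y + 1) := by
  classical
  have hz0 : z ≠ 0 := hz.ne_zero (by omega)
  have hpow := X_pow_sub_C_eq_prod hz (α := (1 : K)) (by omega) (one_pow _)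
  rw [C_1, Finset.prod_range_succ'] at hpow
  simp only [pow_zero, mul_one, C_1] at hpow
  have hgeom := geom_sum_mul (X : K[X]) (2 * h + 1)
  rw [hpow] at hgeom
  have e : ∑ k ∈ Finset.range (2 * h + 1), (X : K[X]) ^ k =
      ∏ i ∈ Finset.range (2 * h), (X - C (z ^ (i + 1))) :=
    mul_right_cancel₀ (show (X : K[X]) - 1 ≠ 0 from C_1 (R := K) ▸ X_sub_C_ne_zero 1) hgeom
  have e2 := congrArg (eval y) e
  rw [eval_finset_sum, eval_prod] at e2
  simp only [eval_pow, eval_X, eval_sub, eval_C] at e2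
  rw [e2, two_mul, Finset.prod_range_add, ← Finset.prod_range_reflect (fun x => y - z ^ (h + x + 1)) h,
    ← Finset.prod_mul_distrib]
  refine Finset.prod_congr rfl fun k hk => ?_
  rw [Finset.mem_range] at hk
  have h1 : z ^ (h + (h - 1 - k) + 1) = z⁻¹ ^ (k + 1) := by
    rw [inv_pow]
    refine eq_inv_of_mul_eq_one_left ?_
    rw [← pow_add, show h + (h - 1 - k) + 1 + (k + 1) = 2 * h + 1 by omega, hz.pow_eq_one]
  have h2 : z ^ (k + 1) * z⁻¹ ^ (k + 1) = 1 := by rw [← mul_pow, mul_inv_cancel₀ hz0, one_pow]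
  rw [h1]
  linear_combination h2

/-- `-1` is a sum of two squares. -/
theorem sumTwoSq_neg_one [CharZero F] {s z : F} (hs : s ^ 2 = 5) {l : ℕ} (hl : l.Prime)
    (h7 : 7 ≤ l) (hz : z ^ l = 1) (hz1 : z ≠ 1) : SumTwoSq (-1 : F) := by
  classical
  obtain ⟨m, hm, hm4, hlm, hm5⟩ := exists_aux_prime hl h7
  obtain ⟨a, b, hab⟩ := sumTwoSq_prime hs m hm hm5
  obtain ⟨h, rfl⟩ : ∃ h, m = 2 * h + 1 := ⟨m / 2, by omega⟩
  have hhodd : Odd h := Nat.odd_iff.mpr (by omega)
  obtain ⟨g, hg, hgd, hgo⟩ :=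
    exists_irreducible_odd h (sumPoly F h) (sumPoly_spec h).1 hhodd
  haveI : Fact (Irreducible g) := ⟨hg⟩
  let M := AdjoinRoot g
  haveI : FiniteDimensional F M := (AdjoinRoot.powerBasis hg.ne_zero).finite
  haveI : CharZero M := charZero_of_injective_algebraMap (algebraMap F M).injective
  have hfin : Module.finrank F M = g.natDegree := by
    rw [(AdjoinRoot.powerBasis hg.ne_zero).finrank, AdjoinRoot.powerBasis_dim]
  refine sumTwoSq_neg_one_descent (M := M) (hfin ▸ hgo) ?_
  let c : M := AdjoinRoot.root g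
  -- a root of unity upstairs
  let E := AlgebraicClosure M
  let i : M →+* E := algebraMap M E
  obtain ⟨w, hw⟩ := IsAlgClosed.exists_root (X ^ 2 - C (i c) * X + C 1)
    (by rw [show (X ^ 2 - C (i c) * X + C 1 : E[X]) = X ^ 2 + (C 1 - C (i c) * X) by ring,
          degree_add_eq_left_of_degree_lt] <;> rw [degree_X_pow]
        · decide
        · refine lt_of_le_of_lt (degree_sub_le _ _) (max_lt ?_ ?_)
          · exact lt_of_le_of_lt degree_C_le (by decide)
          · exact lt_of_le_of_lt (degree_C_mul_X_le _) (by decide))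
  simp only [IsRoot.def, eval_add, eval_sub, eval_mul, eval_pow, eval_X, eval_C] at hw
  have hw0 : w ≠ 0 := by rintro rfl; simp at hw
  have hc : i c = w + w⁻¹ := by
    apply mul_right_cancel₀ hw0
    rw [add_mul, inv_mul_cancel₀ hw0]
    linear_combination -hw
  have hsum : 1 + ∑ k ∈ Finset.range h, (w ^ (k + 1) + w⁻¹ ^ (k + 1)) = 0 := by
    have h0 : aeval c (sumPoly F h) = 0 := by
      obtain ⟨r, hr⟩ := hgd
      rw [hr, map_mul, AdjoinRoot.aeval_eq, AdjoinRoot.mk_self, zero_mul]
    have h1 := congrArg i h0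
    rw [sumPoly, map_add, map_one, map_sum, map_zero] at h1
    simp only [map_add, map_one, map_sum] at h1
    rw [← h1]
    refine congrArg (1 + ·) (Finset.sum_congr rfl fun k _ => ?_)
    have e : aeval c (lucV (X : F[X]) (k + 1)) = lucV c (k + 1) := by
      rw [← AlgHom.coe_toRingHom, map_lucV, AlgHom.coe_toRingHom, aeval_X]
    rw [e, map_lucV, hc, lucV_eq hw0]
  have hgeo : ∀ n : ℕ, (1 + ∑ k ∈ Finset.range n, (w ^ (k + 1) + w⁻¹ ^ (k + 1))) * w ^ n =
      ∑ k ∈ Finset.range (2 * n + 1), w ^ k := by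
    intro n
    induction n with
    | zero => simp
    | succ n ih =>
      rw [Finset.sum_range_succ _ n, show 2 * (n + 1) + 1 = 2 * n + 1 + 1 + 1 by ring,
        Finset.sum_range_succ, Finset.sum_range_succ', Finset.sum_congr rfl fun k _ => pow_succ w k,
        ← Finset.sum_mul, ← ih]
      have e : w⁻¹ ^ (n + 1) * w ^ (n + 1) = 1 := by rw [← mul_pow, inv_mul_cancel₀ hw0, one_pow]
      linear_combination e
  have hgz := hgeo h
  rw [hsum, zero_mul] at hgz
  have hwm : w ^ (2 * h + 1) = 1 := by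
    have := geom_sum_mul w (2 * h + 1)
    rw [← hgz, zero_mul] at this
    exact sub_eq_zero.mp this.symm
  have hw1 : w ≠ 1 := by
    rintro rfl
    simp at hgz
    refine (Nat.cast_add_one_ne_zero (R := E) (2 * h)) ?_
    rw [Nat.cast_mul]
    simpa using hgz.symm
  have hprim : IsPrimitiveRoot w (2 * h + 1) :=
    (IsPrimitiveRoot.iff_orderOf).mpr ((haveI : Fact (2 * h + 1).Prime := ⟨hm⟩; orderOf_eq_prime hwm hw1))
  have hprod : ∀ y : M, ∑ k ∈ Finset.range (2 * h + 1), y ^ k =
      ∏ k ∈ Finset.range h, (y ^ 2 - lucV c (k + 1) * y + 1) := by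
    intro y
    apply i.injective
    rw [map_sum, map_prod]
    simp only [map_pow, map_add, map_sub, map_mul, map_one, map_lucV, hc, lucV_eq hw0]
    exact geom_sum_eq_prod hprim (i y)
  -- `d` is `m` up to squares
  set d : M := 4 - c ^ 2
  have hm' : (((2 * h + 1 : ℕ) : M)) = d ^ h * (∏ k ∈ Finset.range h, lucU c (k + 1)) ^ 2 := by
    rw [← Finset.prod_pow, show d ^ h = ∏ _k ∈ Finset.range h, d by simp, ← Finset.prod_mul_distrib]
    have e : ∀ k ∈ Finset.range h, d * lucU c (k + 1) ^ 2 =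
        ((1 : M) ^ 2 - lucV c (k + 1) * 1 + 1) * ((-1 : M) ^ 2 - lucV c (k + 1) * (-1) + 1) :=
      fun k _ => by rw [← lucV_sq]; ring
    rw [Finset.prod_congr rfl e, Finset.prod_mul_distrib, ← hprod, ← hprod]
    have h2 : ∑ k ∈ Finset.range (2 * h + 1), (-1 : M) ^ k = 1 := by
      rw [neg_one_geom_sum, if_neg (by simp [parity_simps])]
    rw [h2, mul_one]
    rw [Finset.sum_congr rfl fun k _ => one_pow k, Finset.sum_const, Finset.card_range, nsmul_one]
  have hd : SumTwoSq d := by
    obtain ⟨e, he⟩ := hhodd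
    set u := d ^ e * ∏ k ∈ Finset.range h, lucU c (k + 1)
    have h1 : (((2 * h + 1 : ℕ) : M)) = d * u ^ 2 := by
      rw [hm', show d ^ h = d * (d ^ e) ^ 2 by rw [he, ← pow_mul]; ring]
      ring
    have hu : u ^ 2 ≠ 0 := by
      intro h0
      rw [h0, mul_zero] at h1
      exact Nat.cast_ne_zero.mpr (by omega : 2 * h + 1 ≠ 0) h1
    have e2 : d = ((2 * h + 1 : ℕ) : M) * (u ^ 2)⁻¹ := by
      rw [h1, mul_assoc, mul_inv_cancel₀ hu, mul_one]
    rw [e2]
    refine SumTwoSq.mul ⟨algebraMap F M a, algebraMap F M b, ?_⟩ (sumTwoSq_sq u).inv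
    rw [← map_pow, ← map_pow, ← map_add, hab, map_natCast]
  -- evaluate at `y = z ^ 2`
  set y : M := algebraMap F M (z ^ 2)
  have hz2 : z ^ 2 ≠ 1 := fun h2 => hz1 (by
    have hg := pow_gcd_eq_one.mpr ⟨h2, hz⟩
    rwa [show Nat.gcd 2 l = 1 from (Nat.coprime_primes Nat.prime_two hl).mpr (by omega), pow_one] at hg)
  obtain ⟨A, B, hAB⟩ := exists_norm_prod (Finset.range h) d
    (fun k => y ^ 2 - lucV c (k + 1) * y + 1) fun k _ =>
      ⟨y - lucV c (k + 1) / 2, lucU c (k + 1) / 2, by
        have := lucV_sq c (k + 1)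
        linear_combination (-1 / 4) * this⟩
  have hy0 : algebraMap F M z ≠ 0 := by
    simp only [ne_eq, map_eq_zero]
    rintro rfl
    rw [zero_pow hl.ne_zero] at hz
    exact zero_ne_one hz
  set Z : M := algebraMap F M z with hZdef
  have hyZ : y = Z ^ 2 := map_pow _ _ _
  have hym : y ^ (2 * h + 1) * y = 1 := by
    obtain ⟨t, ht⟩ := hlm
    rw [← pow_succ, ← map_pow, ← pow_mul, mul_comm 2, pow_mul, ht, pow_mul, hz, one_pow, one_pow,
      map_one]
  have hy1 : y - 1 ≠ 0 := sub_ne_zero.mpr fun e => hz2 ((algebraMap F M).injective (e.trans (map_one _).symm))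
  rw [← hprod] at hAB
  have hg1 := geom_sum_mul y (2 * h + 1)
  rw [← hAB] at hg1
  have hkey : (Z * A) ^ 2 + d * (Z * B) ^ 2 = -1 := by
    apply mul_right_cancel₀ hy1
    calc ((Z * A) ^ 2 + d * (Z * B) ^ 2) * (y - 1)
        = y * ((A ^ 2 + d * B ^ 2) * (y - 1)) := by rw [hyZ]; ring
      _ = y ^ (2 * h + 1) * y - y := by rw [hg1]; ring
      _ = -1 * (y - 1) := by rw [hym]; ring
  exact sumTwoSq_neg_one_of_three (hd.mul (sumTwoSq_sq _)) hkey

end Cfsg.Agent.DivRingSubgroup
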